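import Cfsg.Agent.WordLaws.SL2

/-!
# Embeddings used to show that a law holds in few classical groups
-/

set_option autoImplicit false

namespace CfsgLib.WordLaws

open Matrix

/-- Homomorphisms commute with substitution. -/
theorem lift_hom {α G H : Type*} [Group G] [Group H] (φ : G →* H) (f : α → G) (w : FreeGroup α) :
    FreeGroup.lift (fun a => φ (f a)) w = φ (FreeGroup.lift f w) := by
  have h : FreeGroup.lift (fun a => φ (f a)) = φ.comp (FreeGroup.lift f) :=
    FreeGroup.ext_hom _ _ (by intro a; simp)
  rw [h]; rfl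

/-- A group containing a copy of `SL₂` over a large field satisfies no given law, even modulo its centre. -/
theorem exists_noncentral (w : FreeGroup ℕ) (hw : w ≠ 1) :
    ∃ N : ℕ, 4 ≤ N ∧ ∀ (F : Type*) [Field F] [Fintype F], N ≤ Fintype.card F →
      ∀ (H : Type*) [Group H] (ψ : SpecialLinearGroup (Fin 2) F →* H), Function.Injective ψ →
        ∃ f : ℕ → H, FreeGroup.lift f w ∉ Subgroup.center H := by
  obtain ⟨N, hN⟩ := exists_noncentral_SL2 w hw
  refine ⟨max N 4, le_max_right _ _, fun F _ _ hF H _ ψ hψ => ?_⟩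
  obtain ⟨f, hf⟩ := hN F ((le_max_left _ _).trans hF)
  refine ⟨fun i => ψ (f i), fun hc => hf ?_⟩
  rw [lift_hom] at hc
  rw [Subgroup.mem_center_iff] at hc ⊢
  intro g
  exact hψ (by rw [map_mul, map_mul]; exact hc (ψ g))

/-- `SL₂` of a field with at least four elements is perfect. -/
theorem commutator_SL2 {F : Type*} [Field F] [Fintype F] (h : 4 ≤ Fintype.card F) :
    commutator (SpecialLinearGroup (Fin 2) F) = ⊤ := by
  classical
  obtain ⟨a, ha⟩ : ∃ a : F, a ∉ ({0, 1, -1} : Finset F) := by
    by_contra hall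
    push Not at hall
    have h1 := Finset.card_le_card (s := (Finset.univ : Finset F)) (t := {0, 1, -1}) fun a _ => hall a
    rw [Finset.card_univ] at h1
    have h2 : ({0, 1, -1} : Finset F).card ≤ 3 := Finset.card_le_three
    omega
  simp only [Finset.mem_insert, Finset.mem_singleton, not_or] at ha
  refine SL2.commutator_eq_top ha.1 ?_
  rw [Ne, sq_eq_one_iff]
  tauto

/-- A homomorphism from a perfect group takes values in the derived group. -/
theorem mem_commutator_of_perfect {S K : Type*} [Group S] [Group K] (hS : commutator S = ⊤)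
    (ψ : S →* K) (s : S) : ψ s ∈ commutator K := by
  have h1 : ψ s ∈ (commutator S).map ψ := ⟨s, by rw [hS]; trivial, rfl⟩
  rw [commutator_def, Subgroup.map_commutator] at h1
  rw [commutator_def]
  exact Subgroup.commutator_mono le_top le_top h1

/-- A homomorphism from a perfect group to a commutative group is trivial. -/
theorem eq_one_of_perfect {S A : Type*} [Group S] [CommGroup A] (hS : commutator S = ⊤)
    (ψ : S →* A) (s : S) : ψ s = 1 := by
  have := Abelianization.commutator_subset_ker ψ (show s ∈ commutator S by rw [hS]; trivial)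
  exact this

/-- A perfect group of order at most `n` embeds into the alternating group of degree `n`. -/
theorem exists_hom_alternating {S : Type*} [Group S] [Fintype S] (hS : commutator S = ⊤) {n : ℕ}
    (hn : Fintype.card S ≤ n) : ∃ ψ : S →* alternatingGroup (Fin n), Function.Injective ψ := by
  classical
  obtain ⟨ι⟩ : Nonempty (S ↪ Fin n) := Function.Embedding.nonempty_of_card_le (by simpa using hn)
  let φ : S →* Equiv.Perm (Fin n) := (Equiv.Perm.viaEmbeddingHom ι).comp (MulAction.toPermHom S S)
  have hφ : Function.Injective φ :=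
    (Equiv.Perm.viaEmbeddingHom_injective ι).comp MulAction.toPerm_injective
  refine ⟨φ.codRestrict (alternatingGroup (Fin n)) fun s => ?_, ?_⟩
  · rw [Equiv.Perm.mem_alternatingGroup]
    exact eq_one_of_perfect hS (Equiv.Perm.sign.comp φ) s
  · intro a b h
    exact hφ (congrArg Subtype.val h)

/-- Permutation matrices, as a homomorphism. -/
noncomputable def permGL (n : ℕ) (F : Type*) [Field F] : Equiv.Perm (Fin n) →* GL (Fin n) F :=
  MonoidHom.toHomUnits
    { toFun := fun σ => (σ⁻¹ : Equiv.Perm (Fin n)).permMatrix F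
      map_one' := by rw [inv_one, Matrix.permMatrix_one]
      map_mul' := fun σ τ => by rw [_root_.mul_inv_rev, Matrix.permMatrix_mul] }

theorem coe_permGL_mulVec {n : ℕ} {F : Type*} [Field F] (σ : Equiv.Perm (Fin n)) (v : Fin n → F) :
    ((permGL n F σ : GL (Fin n) F) : Matrix (Fin n) (Fin n) F) *ᵥ v = v ∘ ⇑σ⁻¹ :=
  Matrix.permMatrix_mulVec σ⁻¹

theorem permGL_injective (n : ℕ) (F : Type*) [Field F] : Function.Injective (permGL n F) := by
  intro σ τ h
  have key : ∀ i, (σ⁻¹ : Equiv.Perm (Fin n)) i = τ⁻¹ i := by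
    intro i
    have := congrArg (fun g : GL (Fin n) F => ((g : Matrix (Fin n) (Fin n) F) *ᵥ Pi.single (σ⁻¹ i) 1) i) h
    simp only [coe_permGL_mulVec, Function.comp_apply, Pi.single_eq_same] at this
    by_contra hne
    rw [Pi.single_eq_of_ne (Ne.symm hne)] at this
    exact one_ne_zero this
  exact inv_injective (Equiv.ext key)

/-- A copy of a `2 × 2` group inside `GL_(2+k)`. -/
noncomputable def blockGL (k : ℕ) (F : Type*) [Field F] : GL (Fin 2) F →* GL (Fin (2 + k)) F :=
  MonoidHom.toHomUnits
    { toFun := fun g => (Matrix.fromBlocks (g : Matrix (Fin 2) (Fin 2) F) 0 0 1).submatrix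
        finSumFinEquiv.symm finSumFinEquiv.symm
      map_one' := by rw [Units.val_one, Matrix.fromBlocks_one, Matrix.submatrix_one_equiv]
      map_mul' := fun g h => by
        rw [Matrix.submatrix_mul_equiv, Matrix.fromBlocks_multiply]
        simp }

theorem blockGL_injective (k : ℕ) (F : Type*) [Field F] : Function.Injective (blockGL k F) := by
  intro g h e
  have h1 := congrArg (fun g : GL (Fin (2 + k)) F => (g : Matrix (Fin (2 + k)) (Fin (2 + k)) F).submatrix finSumFinEquiv finSumFinEquiv) e
  simp only [blockGL, MonoidHom.coe_toHomUnits, MonoidHom.coe_mk, OneHom.coe_mk, Matrix.submatrix_submatrix,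
    Equiv.symm_comp_self, Matrix.submatrix_id_id, Matrix.fromBlocks_inj] at h1
  exact Units.ext h1.1

/-- `g ↦ diag(g, g⁻ᵀ)`. -/
noncomputable def hyperbolicGL (m : ℕ) (F : Type*) [Field F] : GL (Fin m) F →* GL (Fin m ⊕ Fin m) F :=
  MonoidHom.toHomUnits
    { toFun := fun g => Matrix.fromBlocks (g : Matrix (Fin m) (Fin m) F) 0 0
        ((g⁻¹ : GL (Fin m) F) : Matrix (Fin m) (Fin m) F)ᵀ
      map_one' := by simp
      map_mul' := fun g h => by
        rw [Matrix.fromBlocks_multiply, _root_.mul_inv_rev, Units.val_mul, Units.val_mul,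
          Matrix.transpose_mul]
        simp }

theorem coe_hyperbolicGL {m : ℕ} {F : Type*} [Field F] (g : GL (Fin m) F) :
    (hyperbolicGL m F g : Matrix (Fin m ⊕ Fin m) (Fin m ⊕ Fin m) F) =
      Matrix.fromBlocks (g : Matrix (Fin m) (Fin m) F) 0 0
        ((g⁻¹ : GL (Fin m) F) : Matrix (Fin m) (Fin m) F)ᵀ := rfl

theorem hyperbolicGL_injective (m : ℕ) (F : Type*) [Field F] :
    Function.Injective (hyperbolicGL m F) := by
  intro g h e
  have h1 := congrArg Units.val e
  rw [coe_hyperbolicGL, coe_hyperbolicGL, Matrix.fromBlocks_inj] at h1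
  exact Units.ext h1.1

end CfsgLib.WordLaws
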