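import Cfsg.Agent.WordLaws.SL2
import Cfsg.Prelude.Def_Sz

/-!
# No non-trivial law holds in Suzuki groups of large rank

The central root elements `uni(0,b)` of the Suzuki group satisfy `U b * U d = U (b + d)` over every ring of
characteristic two, so the ping-pong argument for `SL₂` applies with `U` and its conjugate by the antidiagonal.
-/

set_option autoImplicit false

namespace CfsgLib.WordLaws.Suzuki

open Matrix Polynomial

variable {R : Type*} [CommRing R]

/-- Central upper root matrix. -/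
def rootU (e : ℕ) (b : R) : Matrix (Fin 4) (Fin 4) R :=
  !![1, 0, b, b ^ e; 0, 1, 0, b; 0, 0, 1, 0; 0, 0, 0, 1]

/-- Central lower root matrix. -/
def rootV (e : ℕ) (b : R) : Matrix (Fin 4) (Fin 4) R :=
  !![1, 0, 0, 0; 0, 1, 0, 0; b, 0, 1, 0; b ^ e, b, 0, 1]

/-- The antidiagonal. -/
def antiI : Matrix (Fin 4) (Fin 4) R := !![0, 0, 0, 1; 0, 0, 1, 0; 0, 1, 0, 0; 1, 0, 0, 0]

theorem rootV_eq (e : ℕ) (b : R) : rootV e b = antiI * rootU e b * antiI := by
  refine Matrix.ext fun i j => ?_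
  fin_cases i <;> fin_cases j <;> simp [rootU, rootV, antiI, Matrix.mul_apply, Fin.sum_univ_four]

theorem antiI_mul_antiI : (antiI : Matrix (Fin 4) (Fin 4) R) * antiI = 1 := by
  refine Matrix.ext fun i j => ?_
  fin_cases i <;> fin_cases j <;> simp [antiI, Matrix.mul_apply, Fin.sum_univ_four]

theorem rootU_mul [CharP R 2] (n : ℕ) (b d : R) :
    rootU (2 ^ n) b * rootU (2 ^ n) d = rootU (2 ^ n) (b + d) := by
  have : Fact (Nat.Prime 2) := ⟨Nat.prime_two⟩
  refine Matrix.ext fun i j => ?_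
  fin_cases i <;> fin_cases j <;>
    simp [rootU, Matrix.mul_apply, Fin.sum_univ_four, add_pow_char_pow, add_comm]

theorem rootV_mul [CharP R 2] (n : ℕ) (b d : R) :
    rootV (2 ^ n) b * rootV (2 ^ n) d = rootV (2 ^ n) (b + d) := by
  rw [rootV_eq, rootV_eq, rootV_eq, ← rootU_mul n b d]
  calc antiI * rootU (2 ^ n) b * antiI * (antiI * rootU (2 ^ n) d * antiI)
      = antiI * rootU (2 ^ n) b * (antiI * antiI) * rootU (2 ^ n) d * antiI := by
        simp only [Matrix.mul_assoc]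
    _ = _ := by rw [antiI_mul_antiI, Matrix.mul_one]; simp only [Matrix.mul_assoc]

theorem rootU_zero {e : ℕ} (he : e ≠ 0) : rootU e (0 : R) = 1 := by
  refine Matrix.ext fun i j => ?_
  fin_cases i <;> fin_cases j <;> simp [rootU, he]

theorem rootV_zero {e : ℕ} (he : e ≠ 0) : rootV e (0 : R) = 1 := by
  rw [rootV_eq, rootU_zero he, Matrix.mul_one, antiI_mul_antiI]

/-- `rootU` as a unit (it is an involution). -/
def unitU [CharP R 2] (n : ℕ) (b : R) : GL (Fin 4) R :=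
  ⟨rootU (2 ^ n) b, rootU (2 ^ n) b,
    by rw [rootU_mul, CharTwo.add_self_eq_zero, rootU_zero (by positivity)],
    by rw [rootU_mul, CharTwo.add_self_eq_zero, rootU_zero (by positivity)]⟩

/-- `rootV` as a unit (it is an involution). -/
def unitV [CharP R 2] (n : ℕ) (b : R) : GL (Fin 4) R :=
  ⟨rootV (2 ^ n) b, rootV (2 ^ n) b,
    by rw [rootV_mul, CharTwo.add_self_eq_zero, rootV_zero (by positivity)],
    by rw [rootV_mul, CharTwo.add_self_eq_zero, rootV_zero (by positivity)]⟩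

/-- First coordinate strictly dominates. -/
def RegA (s : Fin 4 → (ZMod 2)[X]) : Prop :=
  (s 1).degree < (s 0).degree ∧ (s 2).degree < (s 0).degree ∧ (s 3).degree < (s 0).degree

/-- Last coordinate strictly dominates. -/
def RegB (s : Fin 4 → (ZMod 2)[X]) : Prop :=
  (s 0).degree < (s 3).degree ∧ (s 1).degree < (s 3).degree ∧ (s 2).degree < (s 3).degree

theorem dominate {e : ℕ} (he : 2 ≤ e) {b x y z u : (ZMod 2)[X]} (hb : 0 < b.natDegree)
    (hx : x.degree < u.degree) (hy : y.degree < u.degree) (hz : z.degree < u.degree) :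
    let s := x + b * z + b ^ e * u
    (y + b * u).degree < s.degree ∧ z.degree < s.degree ∧ u.degree < s.degree ∧ 0 < s.degree := by
  intro s
  have hu : u ≠ 0 := by rintro rfl; simp at hx
  have hb0 : b ≠ 0 := by rintro rfl; simp at hb
  have hd : (b ^ e * u).degree = ((e * b.natDegree + u.natDegree : ℕ) : WithBot ℕ) := by
    rw [degree_eq_natDegree (mul_ne_zero (pow_ne_zero _ hb0) hu),
      natDegree_mul (pow_ne_zero _ hb0) hu, natDegree_pow]
  have hu' : u.degree = (u.natDegree : WithBot ℕ) := degree_eq_natDegree hu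
  have hbu : (b * u).degree = ((b.natDegree + u.natDegree : ℕ) : WithBot ℕ) := by
    rw [degree_eq_natDegree (mul_ne_zero hb0 hu), natDegree_mul hb0 hu]
  have h1 : b.natDegree < e * b.natDegree := by nlinarith
  have hlt1 : u.degree < (b ^ e * u).degree := by
    rw [hd, hu']; exact_mod_cast (show u.natDegree < e * b.natDegree + u.natDegree by omega)
  have hlt2 : (b * u).degree < (b ^ e * u).degree := by
    rw [hd, hbu]
    exact_mod_cast (show b.natDegree + u.natDegree < e * b.natDegree + u.natDegree by omega)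
  have hlt3 : (b * z).degree < (b ^ e * u).degree := by
    refine lt_of_le_of_lt ?_ hlt2
    rw [degree_mul, degree_mul]
    exact add_le_add le_rfl hz.le
  have hs : s.degree = (b ^ e * u).degree :=
    degree_add_eq_right_of_degree_lt
      (lt_of_le_of_lt (degree_add_le _ _) (max_lt (hx.trans hlt1) hlt3))
  refine ⟨?_, ?_, ?_, ?_⟩
  · rw [hs]
    exact lt_of_le_of_lt (degree_add_le _ _) (max_lt (hy.trans hlt1) hlt2)
  · rw [hs]; exact hz.trans hlt1
  · rw [hs]; exact hlt1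
  · rw [hs]
    exact (zero_le_degree_iff.mpr hu).trans_lt hlt1

theorem upper_RegB {e : ℕ} (he : 2 ≤ e) {b : (ZMod 2)[X]} (hb : 0 < b.natDegree)
    {s : Fin 4 → (ZMod 2)[X]} (hs : RegB s) :
    RegA (rootU e b *ᵥ s) ∧ 0 < ((rootU e b *ᵥ s) 0).degree := by
  obtain ⟨h1, h2, h3, h4⟩ := dominate he hb hs.1 hs.2.1 hs.2.2
  have e0 : (rootU e b *ᵥ s) 0 = s 0 + b * s 2 + b ^ e * s 3 := by
    simp [rootU, Matrix.mulVec, dotProduct, Fin.sum_univ_four]
  have e1 : (rootU e b *ᵥ s) 1 = s 1 + b * s 3 := by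
    simp [rootU, Matrix.mulVec, dotProduct, Fin.sum_univ_four]
  have e2 : (rootU e b *ᵥ s) 2 = s 2 := by
    simp [rootU, Matrix.mulVec, dotProduct, Fin.sum_univ_four]
  have e3 : (rootU e b *ᵥ s) 3 = s 3 := by
    simp [rootU, Matrix.mulVec, dotProduct, Fin.sum_univ_four]
  unfold RegA
  rw [e0, e1, e2, e3]
  exact ⟨⟨h1, h2, h3⟩, h4⟩

theorem lower_RegA {e : ℕ} (he : 2 ≤ e) {b : (ZMod 2)[X]} (hb : 0 < b.natDegree)
    {s : Fin 4 → (ZMod 2)[X]} (hs : RegA s) :
    RegB (rootV e b *ᵥ s) ∧ 0 < ((rootV e b *ᵥ s) 3).degree := by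
  obtain ⟨h1, h2, h3, h4⟩ := dominate he hb hs.2.2 hs.2.1 hs.1
  have e3 : (rootV e b *ᵥ s) 3 = s 3 + b * s 1 + b ^ e * s 0 := by
    simp [rootV, Matrix.mulVec, dotProduct, Fin.sum_univ_four]; ring
  have e2 : (rootV e b *ᵥ s) 2 = s 2 + b * s 0 := by
    simp [rootV, Matrix.mulVec, dotProduct, Fin.sum_univ_four]; ring
  have e1 : (rootV e b *ᵥ s) 1 = s 1 := by
    simp [rootV, Matrix.mulVec, dotProduct, Fin.sum_univ_four]
  have e0 : (rootV e b *ᵥ s) 0 = s 0 := by
    simp [rootV, Matrix.mulVec, dotProduct, Fin.sum_univ_four]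
  unfold RegB
  rw [e0, e1, e2, e3]
  exact ⟨⟨h3, h2, h1⟩, h4⟩

/-- The image of a generator. -/
noncomputable def genElt (n i : ℕ) : GL (Fin 4) (ZMod 2)[X] :=
  unitU n (X ^ (i + 1)) * unitV n (X ^ (i + 1))

/-- The value of a letter. -/
noncomputable def letterVal (n : ℕ) (x : ℕ × Bool) : GL (Fin 4) (ZMod 2)[X] :=
  bif x.2 then genElt n x.1 else (genElt n x.1)⁻¹

/-- The matrix of a letter. -/
noncomputable def letterMat (n : ℕ) (x : ℕ × Bool) : Matrix (Fin 4) (Fin 4) (ZMod 2)[X] :=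
  bif x.2 then rootU (2 ^ n) (X ^ (x.1 + 1)) * rootV (2 ^ n) (X ^ (x.1 + 1))
  else rootV (2 ^ n) (X ^ (x.1 + 1)) * rootU (2 ^ n) (X ^ (x.1 + 1))

theorem coe_letterVal (n : ℕ) (x : ℕ × Bool) :
    (letterVal n x : Matrix (Fin 4) (Fin 4) (ZMod 2)[X]) = letterMat n x := by
  obtain ⟨i, a⟩ := x
  cases a <;> rfl

/-- The ping-pong invariant. -/
def Inv (n : ℕ) : ℕ × Bool → (Fin 4 → (ZMod 2)[X]) → Prop
  | (i, true), s => ∃ t, RegB t ∧ s = rootU (2 ^ n) (X ^ (i + 1)) *ᵥ t
  | (i, false), s => ∃ t, RegA t ∧ s = rootV (2 ^ n) (X ^ (i + 1)) *ᵥ t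

theorem natDegree_pos_sum {i j : ℕ} (h : i ≠ j) :
    0 < (X ^ (i + 1) + X ^ (j + 1) : (ZMod 2)[X]).natDegree := by
  wlog hij : j < i generalizing i j
  · rw [add_comm]; exact this h.symm (by omega)
  rw [natDegree_add_eq_left_of_natDegree_lt (by simp [natDegree_X_pow]; omega), natDegree_X_pow]
  omega

theorem inv_step (n : ℕ) (hn : 1 ≤ n) (x y : ℕ × Bool) (hxy : x.1 = y.1 → x.2 = y.2)
    (s : Fin 4 → (ZMod 2)[X]) (hs : Inv n y s) : Inv n x (letterMat n x *ᵥ s) := by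
  have he : 2 ≤ 2 ^ n := Nat.le_self_pow (by omega) 2
  have hX : ∀ k : ℕ, 0 < (X ^ (k + 1) : (ZMod 2)[X]).natDegree := fun k => by
    rw [natDegree_X_pow]; omega
  obtain ⟨i, a⟩ := x
  obtain ⟨j, b⟩ := y
  cases a <;> cases b <;> obtain ⟨t, ht, rfl⟩ := hs <;>
    simp only [letterMat, cond_true, cond_false, ← Matrix.mulVec_mulVec]
  · exact ⟨_, (upper_RegB he (hX i) (lower_RegA he (hX j) ht).1).1, rfl⟩
  · refine ⟨_, ?_, rfl⟩
    rw [Matrix.mulVec_mulVec, rootU_mul]
    exact (upper_RegB he (natDegree_pos_sum fun h => Bool.noConfusion (hxy h)) ht).1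
  · refine ⟨_, ?_, rfl⟩
    rw [Matrix.mulVec_mulVec, rootV_mul]
    exact (lower_RegA he (natDegree_pos_sum fun h => Bool.noConfusion (hxy h)) ht).1
  · exact ⟨_, (lower_RegA he (hX i) (upper_RegB he (hX j) ht).1).1, rfl⟩

theorem exists_inv (n : ℕ) (hn : 1 ≤ n) :
    ∀ (L : List (ℕ × Bool)) (x : ℕ × Bool), FreeGroup.IsReduced (x :: L) →
      ∃ l : Fin 4, Inv n x (((x :: L).map (letterMat n)).prod *ᵥ Pi.single l 1)
  | [], x, _ => by
      have he : 2 ≤ 2 ^ n := Nat.le_self_pow (by omega) 2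
      obtain ⟨i, a⟩ := x
      have hi : 0 < (X ^ (i + 1) : (ZMod 2)[X]).natDegree := by rw [natDegree_X_pow]; omega
      cases a
      · refine ⟨3, rootU (2 ^ n) (X ^ (i + 1)) *ᵥ Pi.single 3 1, ?_, ?_⟩
        · exact (upper_RegB he hi ⟨by simp, by simp, by simp⟩).1
        · simp only [List.map_cons, List.map_nil, List.prod_singleton, letterMat, cond_false,
            Matrix.mulVec_mulVec]
      · refine ⟨0, rootV (2 ^ n) (X ^ (i + 1)) *ᵥ Pi.single 0 1, ?_, ?_⟩
        · exact (lower_RegA he hi ⟨by simp, by simp, by simp⟩).1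
        · simp only [List.map_cons, List.map_nil, List.prod_singleton, letterMat, cond_true,
            Matrix.mulVec_mulVec]
  | y :: L, x, h => by
      rw [FreeGroup.IsReduced, List.isChain_cons_cons] at h
      obtain ⟨l, hinv⟩ := exists_inv n hn L y h.2
      refine ⟨l, ?_⟩
      rw [List.map_cons, List.prod_cons, ← Matrix.mulVec_mulVec]
      exact inv_step n hn x y h.1 _ hinv

theorem natDegree_letter (n : ℕ) (x : ℕ × Bool) (i j : Fin 4) :
    (letterMat n x i j).natDegree ≤ 2 * 2 ^ n * (x.1 + 1) := by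
  have key : ∀ A B : Matrix (Fin 4) (Fin 4) (ZMod 2)[X],
      (∀ i j, (A i j).natDegree ≤ 2 ^ n * (x.1 + 1)) → (∀ i j, (B i j).natDegree ≤ 2 ^ n * (x.1 + 1)) →
      ((A * B) i j).natDegree ≤ 2 * 2 ^ n * (x.1 + 1) := by
    intro A B hA hB
    rw [Matrix.mul_apply]
    refine natDegree_sum_le_of_forall_le _ _ fun k _ => natDegree_mul_le.trans ?_
    have := hA i k; have := hB k j
    rw [mul_assoc]; omega
  have h1 : x.1 + 1 ≤ 2 ^ n * (x.1 + 1) := Nat.le_mul_of_pos_left _ (by positivity)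
  have hU : ∀ i j : Fin 4, (rootU (2 ^ n) (X ^ (x.1 + 1) : (ZMod 2)[X]) i j).natDegree ≤ 2 ^ n * (x.1 + 1) := by
    intro i j
    fin_cases i <;> fin_cases j <;> simp [rootU, natDegree_pow] <;> exact Nat.one_le_two_pow
  have hV : ∀ i j : Fin 4, (rootV (2 ^ n) (X ^ (x.1 + 1) : (ZMod 2)[X]) i j).natDegree ≤ 2 ^ n * (x.1 + 1) := by
    intro i j
    fin_cases i <;> fin_cases j <;> simp [rootV, natDegree_pow] <;> exact Nat.one_le_two_pow
  unfold letterMat
  cases x.2
  · exact key _ _ hV hU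
  · exact key _ _ hU hV

theorem natDegree_prod (n : ℕ) (L : List (ℕ × Bool)) (i j : Fin 4) :
    ((L.map (letterMat n)).prod i j).natDegree ≤ 2 * 2 ^ n * (L.map fun x => x.1 + 1).sum := by
  induction L generalizing i j with
  | nil =>
    rw [List.map_nil, List.prod_nil, Matrix.one_apply]
    split <;> simp
  | cons x L ih =>
    rw [List.map_cons, List.prod_cons, List.map_cons, List.sum_cons, Matrix.mul_apply]
    refine natDegree_sum_le_of_forall_le _ _ fun k _ => natDegree_mul_le.trans ?_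
    rw [Nat.mul_add]
    exact add_le_add (natDegree_letter n x i k) (ih k j)

section membership

variable {F : Type*} [Field F] [Fintype F] {m : ℕ}

theorem pow_e_e (hF : Fintype.card F = 2 ^ (2 * m + 1)) (b : F) :
    (b ^ 2 ^ (m + 1)) ^ 2 ^ (m + 1) = b ^ 2 := by
  have h : 2 ^ (m + 1) * 2 ^ (m + 1) = Fintype.card F * 2 := by
    rw [hF, ← pow_add, ← pow_succ]; congr 1; omega
  rw [← pow_mul, h, pow_mul, FiniteField.pow_card]

theorem map_star4_rootU [CharP F 2] (hF : Fintype.card F = 2 ^ (2 * m + 1)) (b : F) :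
    Cfsg.Lie.star4 (rootU (2 ^ (m + 1)) b) = (rootU (2 ^ (m + 1)) b).map (fun x => x ^ 2 ^ (m + 1)) := by
  refine Matrix.ext fun i j => ?_
  have h2 := pow_e_e hF b
  fin_cases i <;> fin_cases j <;>
    simp [rootU, Cfsg.Lie.star4, Cfsg.Lie.pairOf, h2, CharTwo.neg_eq, pow_two]

theorem map_star4_antiI [CharP F 2] (m : ℕ) :
    Cfsg.Lie.star4 (antiI : Matrix (Fin 4) (Fin 4) F) = (antiI : Matrix (Fin 4) (Fin 4) F).map (fun x => x ^ 2 ^ (m + 1)) := by
  refine Matrix.ext fun i j => ?_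
  fin_cases i <;> fin_cases j <;> simp [antiI, Cfsg.Lie.star4, Cfsg.Lie.pairOf, CharTwo.neg_eq]

theorem unitU_mem_sz [CharP F 2] (hF : Fintype.card F = 2 ^ (2 * m + 1)) (b : F) :
    unitU (m + 1) b ∈ Cfsg.Lie.Sz F (2 ^ (m + 1)) := by
  refine Subgroup.subset_closure ⟨fun u v => ?_, map_star4_rootU hF b⟩
  change Cfsg.Lie.altForm4 (rootU (2 ^ (m + 1)) b *ᵥ u) (rootU (2 ^ (m + 1)) b *ᵥ v) = Cfsg.Lie.altForm4 u v
  simp [rootU, Cfsg.Lie.altForm4, Matrix.mulVec, dotProduct, Fin.sum_univ_four]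
  have h2 : (2 : F) = 0 := CharTwo.two_eq_zero
  linear_combination (b * u 2 * v 3 + b * u 3 * v 2 + b ^ 2 ^ (m + 1) * u 3 * v 3) * h2

/-- The antidiagonal as a unit. -/
def unitW : GL (Fin 4) F := ⟨antiI, antiI, antiI_mul_antiI, antiI_mul_antiI⟩

theorem unitW_mem_sz [CharP F 2] (m : ℕ) : (unitW : GL (Fin 4) F) ∈ Cfsg.Lie.Sz F (2 ^ (m + 1)) := by
  refine Subgroup.subset_closure ⟨fun u v => ?_, map_star4_antiI m⟩
  change Cfsg.Lie.altForm4 (antiI *ᵥ u) (antiI *ᵥ v) = Cfsg.Lie.altForm4 u v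
  simp [antiI, Cfsg.Lie.altForm4, Matrix.mulVec, dotProduct, Fin.sum_univ_four]
  ring

theorem unitV_mem_sz [CharP F 2] (hF : Fintype.card F = 2 ^ (2 * m + 1)) (b : F) :
    unitV (m + 1) b ∈ Cfsg.Lie.Sz F (2 ^ (m + 1)) := by
  have h : (unitV (m + 1) b : GL (Fin 4) F) = unitW * unitU (m + 1) b * unitW := Units.ext (rootV_eq _ b)
  rw [h]
  exact mul_mem (mul_mem (unitW_mem_sz m) (unitU_mem_sz hF b)) (unitW_mem_sz m)

end membership

/-- For every non-trivial word there is a bound past which some substitution in `Sz(2^(2m+1))` has non-trivial value. -/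
theorem exists_nontrivial_sz (w : FreeGroup ℕ) (hw : w ≠ 1) :
    ∃ N : ℕ, ∀ (F : Type*) [Field F] [Fintype F] (m : ℕ), N ≤ m → Fintype.card F = 2 ^ (2 * m + 1) →
      ∃ f : ℕ → ↥(Cfsg.Lie.Sz F (2 ^ (m + 1))), FreeGroup.lift f w ≠ 1 := by
  obtain ⟨x, L, hL⟩ := List.exists_cons_of_ne_nil (l := w.toWord) (by simpa using hw)
  refine ⟨2 * ((x :: L).map fun x => x.1 + 1).sum, fun F _ _ m hm hF => ?_⟩
  have hchar : CharP F 2 := by
    have : Fact (Nat.Prime 2) := ⟨Nat.prime_two⟩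
    exact charP_of_card_eq_prime_pow hF
  obtain ⟨l, hinv⟩ := exists_inv (m + 1) (by omega) L x (hL ▸ FreeGroup.isReduced_toWord)
  set M := ((x :: L).map (letterMat (m + 1))).prod with hMdef
  obtain ⟨k, hk⟩ : ∃ k : Fin 4, 0 < (M k l).degree := by
    have he : 2 ≤ 2 ^ (m + 1) := Nat.le_self_pow (by omega) 2
    have hcol : M *ᵥ Pi.single l 1 = fun k => M k l := by
      funext k; simp [Matrix.mulVec_single]
    have hX : ∀ k : ℕ, 0 < (X ^ (k + 1) : (ZMod 2)[X]).natDegree := fun k => by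
      rw [natDegree_X_pow]; omega
    obtain ⟨i, a⟩ := x
    cases a <;> obtain ⟨t, ht, hts⟩ := hinv <;> rw [hcol] at hts
    · exact ⟨3, by have h3 := (lower_RegA he (hX i) ht).2; rwa [← hts] at h3⟩
    · exact ⟨0, by have h3 := (upper_RegB he (hX i) ht).2; rwa [← hts] at h3⟩
  let φ : (ZMod 2)[X] →+* F[X] := Polynomial.mapRingHom (ZMod.castHom dvd_rfl F)
  let c : F := if k = l then 1 else 0
  have hdeg : 0 < (φ (M k l)).degree := by
    change 0 < ((M k l).map (ZMod.castHom dvd_rfl F)).degree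
    rwa [Polynomial.degree_map]
  set P := φ (M k l) - Polynomial.C c with hPdef
  have hP0 : P ≠ 0 := by
    intro h
    rw [sub_eq_zero] at h
    rw [h] at hdeg
    exact absurd hdeg (not_lt.mpr degree_C_le)
  obtain ⟨t, ht⟩ : ∃ t : F, P.eval t ≠ 0 := by
    classical
    by_contra hall
    push Not at hall
    have hsub : (Finset.univ : Finset F) ⊆ P.roots.toFinset := fun a _ => by
      rw [Multiset.mem_toFinset, Polynomial.mem_roots hP0]; exact hall a
    have hcard := ((Finset.card_le_card hsub).trans (Multiset.toFinset_card_le _)).trans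
      (Polynomial.card_roots' _)
    rw [Finset.card_univ, hF, hPdef, natDegree_sub_C] at hcard
    have h1 : (φ (M k l)).natDegree ≤ 2 * 2 ^ (m + 1) * ((x :: L).map fun x => x.1 + 1).sum :=
      Polynomial.natDegree_map_le.trans (natDegree_prod (m + 1) (x :: L) k l)
    have h2 : 2 * ((x :: L).map fun x => x.1 + 1).sum < 2 ^ m := hm.trans_lt Nat.lt_two_pow_self
    have h3 : 2 ^ (2 * m + 1) = 2 ^ (m + 1) * 2 ^ m := by rw [← pow_add]; congr 1; omega
    have h4 : 2 * 2 ^ (m + 1) * ((x :: L).map fun x => x.1 + 1).sum < 2 ^ (m + 1) * 2 ^ m := by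
      rw [mul_comm 2, mul_assoc]
      exact Nat.mul_lt_mul_of_pos_left h2 (by positivity)
    omega
  let f : ℕ → ↥(Cfsg.Lie.Sz F (2 ^ (m + 1))) := fun i =>
    ⟨unitU (m + 1) (t ^ (i + 1)), unitU_mem_sz hF _⟩ * ⟨unitV (m + 1) (t ^ (i + 1)), unitV_mem_sz hF _⟩
  refine ⟨f, fun h => ht ?_⟩
  let ev : (ZMod 2)[X] →+* F := Polynomial.eval₂RingHom (ZMod.castHom dvd_rfl F) t
  let Φ : GL (Fin 4) (ZMod 2)[X] →* GL (Fin 4) F := Units.map (RingHom.mapMatrix ev).toMonoidHom
  have hU : ∀ i : ℕ, Φ (unitU (m + 1) (X ^ (i + 1))) = unitU (m + 1) (t ^ (i + 1)) := by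
    intro i
    refine Units.ext (Matrix.ext fun a b => ?_)
    change ev (rootU (2 ^ (m + 1)) (X ^ (i + 1)) a b) = rootU (2 ^ (m + 1)) (t ^ (i + 1)) a b
    fin_cases a <;> fin_cases b <;> simp [rootU, ev, eval₂_pow]
  have hV : ∀ i : ℕ, Φ (unitV (m + 1) (X ^ (i + 1))) = unitV (m + 1) (t ^ (i + 1)) := by
    intro i
    refine Units.ext (Matrix.ext fun a b => ?_)
    change ev (rootV (2 ^ (m + 1)) (X ^ (i + 1)) a b) = rootV (2 ^ (m + 1)) (t ^ (i + 1)) a b
    fin_cases a <;> fin_cases b <;> simp [rootV, ev, eval₂_pow]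
  have hhom : (Cfsg.Lie.Sz F (2 ^ (m + 1))).subtype.comp (FreeGroup.lift f) =
      Φ.comp (FreeGroup.lift (genElt (m + 1))) := FreeGroup.ext_hom _ _ fun i => by
    simp only [MonoidHom.coe_comp, Function.comp_apply, FreeGroup.lift_apply_of, genElt, map_mul, hU, hV]
    rfl
  have h1 := congrArg Units.val (congrArg (fun ψ => ψ w) hhom)
  simp only [MonoidHom.coe_comp, Function.comp_apply, h, map_one, Units.val_one] at h1
  have hM : (FreeGroup.lift (genElt (m + 1)) w : Matrix (Fin 4) (Fin 4) (ZMod 2)[X]) = M := by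
    conv_lhs => rw [← FreeGroup.mk_toWord (x := w), hL, FreeGroup.lift_mk]
    rw [← Units.coeHom_apply, map_list_prod, List.map_map, hMdef]
    congr 1
    exact List.map_congr_left fun y _ => coe_letterVal (m + 1) y
  have h2 := congrFun (congrFun h1 k) l
  change (1 : Matrix (Fin 4) (Fin 4) F) k l =
    ev ((FreeGroup.lift (genElt (m + 1)) w : Matrix (Fin 4) (Fin 4) (ZMod 2)[X]) k l) at h2
  rw [hM, Matrix.one_apply] at h2
  rw [hPdef, eval_sub, eval_C]
  change ((M k l).map (ZMod.castHom dvd_rfl F)).eval t - c = 0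
  rw [Polynomial.eval_map, show eval₂ (ZMod.castHom dvd_rfl F) t (M k l) = ev (M k l) from rfl, ← h2, sub_self]

end CfsgLib.WordLaws.Suzuki
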