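import Cfsg.Agent.WordLaws.Embed
import Cfsg.Prelude.Def_Classical

/-!
# Copies of perfect groups and of `SL₂(q)` in `SU_n(q)`
-/

set_option autoImplicit false

namespace CfsgLib.WordLaws

open Matrix

/-- A homomorphism from a perfect group into `GL` lands in `SL`. -/
noncomputable def toSLOfPerfect {S : Type*} [Group S] (hS : commutator S = ⊤) {ι : Type*} [Fintype ι]
    [DecidableEq ι] {F : Type*} [Field F] (ψ : S →* GL ι F) : S →* SpecialLinearGroup ι F where
  toFun s := ⟨(ψ s : Matrix ι ι F), congrArg Units.val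
    (eq_one_of_perfect hS (Matrix.GeneralLinearGroup.det.comp ψ) s)⟩
  map_one' := Subtype.ext (by simp)
  map_mul' a b := Subtype.ext (congrArg Units.val (map_mul ψ a b))

theorem toSLOfPerfect_injective {S : Type*} [Group S] (hS : commutator S = ⊤) {ι : Type*} [Fintype ι]
    [DecidableEq ι] {F : Type*} [Field F] (ψ : S →* GL ι F) (h : Function.Injective ψ) :
    Function.Injective (toSLOfPerfect hS ψ) := fun a b e =>
  h (Units.ext (congrArg Subtype.val e))

/-- A homomorphism from a perfect group into `GL` preserving the Hermitian form lands in `SU`. -/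
theorem exists_hom_SU {S : Type*} [Group S] (hS : commutator S = ⊤) {n q : ℕ} {F : Type*} [Field F]
    (ψ : S →* GL (Fin n) F) (hψ : Function.Injective ψ)
    (h : ∀ s u v, Cfsg.hermForm n F q ((ψ s : Matrix (Fin n) (Fin n) F) *ᵥ u)
      ((ψ s : Matrix (Fin n) (Fin n) F) *ᵥ v) = Cfsg.hermForm n F q u v) :
    ∃ φ : S →* Cfsg.SU n F q, Function.Injective φ := by
  refine ⟨(toSLOfPerfect hS ψ).codRestrict _ fun s => ?_, fun a b e =>
    toSLOfPerfect_injective hS ψ hψ (congrArg Subtype.val e)⟩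
  exact h s

/-- Permutation matrices are unitary. -/
theorem exists_hom_SU_perm {S : Type*} [Group S] [Fintype S] (hS : commutator S = ⊤) {n q : ℕ}
    (F : Type*) [Field F] (hn : Fintype.card S ≤ n) :
    ∃ φ : S →* Cfsg.SU n F q, Function.Injective φ := by
  obtain ⟨φ, hφ⟩ := exists_hom_alternating hS hn
  refine exists_hom_SU hS ((permGL n F).comp ((alternatingGroup (Fin n)).subtype.comp φ))
    ((permGL_injective n F).comp (Subtype.val_injective.comp hφ)) fun s u v => ?_
  simp only [MonoidHom.coe_comp, Function.comp_apply, coe_permGL_mulVec, Cfsg.hermForm]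
  exact Equiv.sum_comp (((φ s : Equiv.Perm (Fin n)))⁻¹) (fun i => u i * v i ^ q)

/-- Matrix criterion for preserving the Hermitian form. -/
theorem hermForm_mulVec {n q : ℕ} {F : Type*} [Field F] (σ : F →+* F) (hσ : ∀ x, σ x = x ^ q)
    (M : Matrix (Fin n) (Fin n) F) (hM : Mᵀ * M.map σ = 1) (u v : Fin n → F) :
    Cfsg.hermForm n F q (M *ᵥ u) (M *ᵥ v) = Cfsg.hermForm n F q u v := by
  have e : ∀ a b : Fin n → F, Cfsg.hermForm n F q a b = a ⬝ᵥ (σ ∘ b) := by
    intro a b
    simp [Cfsg.hermForm, dotProduct, hσ]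
  rw [e, e]
  have h1 : σ ∘ (M *ᵥ v) = M.map σ *ᵥ (σ ∘ v) := funext fun i => RingHom.map_mulVec σ M v i
  rw [h1, ← Matrix.vecMul_transpose M u, ← Matrix.dotProduct_mulVec, Matrix.mulVec_mulVec, hM,
    Matrix.one_mulVec]

theorem exists_hom_SU_two {F : Type} [Field F] [Fintype F] {n q : ℕ} (hn : 2 ≤ n) (hq : 5 ≤ q)
    (hF : Fintype.card F = q ^ 2) :
    ∃ (E : Type) (_ : Field E) (_ : Fintype E), q - 1 ≤ Fintype.card E ∧
      ∃ φ : SpecialLinearGroup (Fin 2) E →* Cfsg.SU n F q, Function.Injective φ := by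
  classical
  obtain ⟨p, hpc⟩ := CharP.exists F
  obtain ⟨k, hp, hk⟩ := FiniteField.card F p
  have : Fact p.Prime := ⟨hp⟩
  obtain ⟨j, -, hj⟩ : ∃ j ≤ (k : ℕ), q = p ^ j :=
    (Nat.dvd_prime_pow hp).mp (by rw [← hk, hF]; exact dvd_pow_self q two_ne_zero)
  let σ : F →+* F := iterateFrobenius F p j
  have hσ : ∀ x, σ x = x ^ q := fun x => by rw [hj]; rfl
  have hσσ : ∀ x, σ (σ x) = x := fun x => by
    rw [hσ, hσ, ← pow_mul, ← pow_two, ← hF, FiniteField.pow_card]
  obtain ⟨g, hg⟩ := IsCyclic.exists_generator (α := Fˣ)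
  have hgo : orderOf g = q ^ 2 - 1 := by
    rw [orderOf_eq_card_of_forall_mem_zpowers hg, Nat.card_units, Nat.card_eq_fintype_card, hF]
  have hqq : q ^ 2 - 1 = (q + 1) * (q - 1) := by
    obtain ⟨r, rfl⟩ : ∃ r, q = r + 1 := ⟨q - 1, by omega⟩
    have : (r + 1) ^ 2 = (r + 1 + 1) * r + 1 := by ring
    simp only [add_tsub_cancel_right]
    omega
  have hg1 : g ^ (q - 1) ≠ 1 := fun h => by
    have h1 := Nat.le_of_dvd (by omega) (orderOf_dvd_of_pow_eq_one h)
    rw [hgo] at h1
    have : q < q ^ 2 := by nlinarith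
    omega
  obtain ⟨δ, hδ0, hδ⟩ : ∃ δ : F, δ ≠ 0 ∧ σ δ = -δ := by
    refine ⟨σ g - g, fun h => ?_, by rw [map_sub, hσσ]; ring⟩
    rw [hσ, sub_eq_zero] at h
    have h2 : g ^ q = g := Units.ext (by simpa using h)
    apply hg1
    refine mul_left_cancel (a := g) ?_
    rw [mul_one, ← pow_succ', Nat.sub_add_cancel (by omega), h2]
  obtain ⟨m, -, hm⟩ : ∃ m < orderOf g, g ^ m = -1 := by
    have h1 : (-1 : Fˣ) ∈ Subgroup.zpowers g := hg _
    rw [← mem_powers_iff_mem_zpowers, Submonoid.mem_powers_iff] at h1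
    obtain ⟨i, hi⟩ := h1
    exact ⟨i % orderOf g, Nat.mod_lt _ (orderOf_pos g), by rw [pow_mod_orderOf, hi]⟩
  have hmd : q + 1 ∣ m := by
    have h1 : (-1 : Fˣ) ^ (q - 1) = 1 := by
      have hs : σ (-1) = -1 := by rw [map_neg, map_one]
      rw [hσ] at hs
      refine Units.ext ?_
      rw [Units.val_pow_eq_pow_val, Units.val_neg, Units.val_one]
      refine mul_left_cancel₀ (neg_ne_zero.mpr one_ne_zero : (-1 : F) ≠ 0) ?_
      rw [mul_one, ← pow_succ', Nat.sub_add_cancel (by omega), hs]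
    rw [← hm, ← pow_mul] at h1
    have h2 := orderOf_dvd_of_pow_eq_one h1
    rw [hgo, hqq] at h2
    exact Nat.dvd_of_mul_dvd_mul_right (by omega) h2
  obtain ⟨r, hr⟩ := hmd
  let a : F := ((g ^ r : Fˣ) : F)
  let a' : F := ((g ^ (r + (q - 1)) : Fˣ) : F)
  have ha : a * σ a = -1 := by
    rw [hσ, ← pow_succ', ← Units.val_pow_eq_pow_val, ← pow_mul, mul_comm r, ← hr, hm, Units.val_neg,
      Units.val_one]
  have ha' : a' * σ a' = -1 := by
    rw [hσ, ← pow_succ', ← Units.val_pow_eq_pow_val, ← pow_mul, add_mul, pow_add, mul_comm r, ← hr,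
      mul_comm (q - 1), ← hqq, ← hgo, pow_orderOf_eq_one, mul_one, hm, Units.val_neg, Units.val_one]
  have haa : a ≠ a' := fun h => hg1 (by
    have h1 := Units.ext h
    rw [pow_add] at h1
    exact mul_eq_left.mp h1.symm)
  have hd : 1 + a * σ a' ≠ 0 := by
    intro h
    apply haa
    have : σ a' ≠ 0 := by
      intro h0; rw [h0, mul_zero] at ha'; exact one_ne_zero (neg_eq_zero.mp ha'.symm)
    refine mul_right_cancel₀ this ?_
    rw [ha']; linear_combination h
  let c : F := σ (δ / (1 + a * σ a'))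
  have hc : σ c * (1 + a * σ a') = δ := by rw [hσσ]; field_simp
  have hc' : c * (1 + a' * σ a) = -δ := by
    have := congrArg σ hc
    rw [map_mul, map_add, map_one, map_mul, hσσ, hσσ, hδ] at this
    linear_combination this
  let P : Matrix (Fin 2) (Fin 2) F := !![1, c; a, c * a']
  have hP : P.det ≠ 0 := by
    simp only [P, Matrix.det_fin_two_of]
    have hc0 : c ≠ 0 := by
      intro h
      rw [h, zero_mul] at hc'
      exact hδ0 (neg_eq_zero.mp hc'.symm)
    rw [show 1 * (c * a') - c * a = c * (a' - a) by ring]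
    exact mul_ne_zero hc0 (sub_ne_zero.mpr haa.symm)
  let J : Matrix (Fin 2) (Fin 2) F := !![0, δ; -δ, 0]
  have hPJ : Pᵀ * P.map σ = J := by
    ext i l
    fin_cases i <;> fin_cases l <;> simp [P, J, Matrix.mul_apply, Fin.sum_univ_two]
    · linear_combination ha
    · linear_combination hc
    · linear_combination hc'
    · linear_combination c * σ c * ha'
  let E : Subfield F := σ.eqLocusField (RingHom.id F)
  let P' : GL (Fin 2) F := GeneralLinearGroup.mkOfDetNeZero P hP
  let θ : SpecialLinearGroup (Fin 2) E →* GL (Fin 2) F :=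
    (MulAut.conj P').toMonoidHom.comp
      (Matrix.SpecialLinearGroup.toGL.comp (Matrix.SpecialLinearGroup.map E.subtype))
  have hmapinj : Function.Injective
      (Matrix.SpecialLinearGroup.map (n := Fin 2) E.subtype) := fun A B h => Subtype.ext
      (Matrix.map_injective E.subtype.injective
        (congrArg (fun x : SpecialLinearGroup (Fin 2) F => x.1) h))
  have hθ : Function.Injective θ :=
    (MulAut.conj P').injective.comp (Matrix.SpecialLinearGroup.toGL_injective.comp hmapinj)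
  have hunit : ∀ A, (θ A : Matrix (Fin 2) (Fin 2) F)ᵀ * (θ A : Matrix (Fin 2) (Fin 2) F).map σ = 1 := by
    intro A
    set B : Matrix (Fin 2) (Fin 2) F := A.1.map E.subtype with hB
    set R : Matrix (Fin 2) (Fin 2) F := ((P'⁻¹ : GL (Fin 2) F) : Matrix (Fin 2) (Fin 2) F)
    have hcoe : (θ A : Matrix (Fin 2) (Fin 2) F) = P * B * R := rfl
    have hBσ : B.map σ = B := by
      ext i l
      exact (A.1 i l).2
    have hdet : B.det = 1 := by
      rw [hB, ← RingHom.mapMatrix_apply, ← RingHom.map_det, A.2, map_one]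
    have hBJ : Bᵀ * J * B = J := by
      rw [Matrix.det_fin_two] at hdet
      ext i l
      fin_cases i <;> fin_cases l <;>
        simp [J, Matrix.mul_apply, Fin.sum_univ_two]
      · ring
      · linear_combination δ * hdet
      · linear_combination (-δ) * hdet
      · ring
    have hPR : P * R = 1 := congrArg Units.val (mul_inv_cancel P')
    rw [hcoe, Matrix.map_mul, Matrix.map_mul, hBσ, Matrix.transpose_mul, Matrix.transpose_mul]
    calc Rᵀ * (Bᵀ * Pᵀ) * (P.map σ * B * R.map σ)
        = Rᵀ * (Bᵀ * (Pᵀ * P.map σ) * B) * R.map σ := by simp only [Matrix.mul_assoc]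
      _ = (P * R)ᵀ * (P * R).map σ := by
          rw [hPJ, hBJ, ← hPJ, Matrix.transpose_mul, Matrix.map_mul]; simp only [Matrix.mul_assoc]
      _ = 1 := by rw [hPR, Matrix.transpose_one, Matrix.map_one _ (map_zero σ) (map_one σ), one_mul]
  obtain ⟨e, rfl⟩ : ∃ e, n = 2 + e := ⟨n - 2, by omega⟩
  have hcard : q - 1 ≤ Fintype.card E := by
    have hmem : ∀ i : Fin (q - 1), (((g ^ ((q + 1) * i.1) : Fˣ)) : F) ∈ E := by
      intro i
      show σ _ = _
      rw [hσ, RingHom.id_apply, ← Units.val_pow_eq_pow_val, ← pow_mul]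
      congr 1
      rw [pow_eq_pow_iff_modEq, hgo]
      have hex : (q + 1) * i.1 * q = (q + 1) * i.1 + (q ^ 2 - 1) * i.1 := by
        rw [hqq]
        obtain ⟨r', rfl⟩ : ∃ r', q = r' + 1 := ⟨q - 1, by omega⟩
        simp only [add_tsub_cancel_right]
        ring
      rw [hex]
      simp [Nat.ModEq]
    have hinj : Function.Injective (fun i : Fin (q - 1) => (⟨_, hmem i⟩ : E)) := by
      intro i l h
      have h1 : g ^ ((q + 1) * i.1) = g ^ ((q + 1) * l.1) := Units.ext (congrArg Subtype.val h)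
      have hlt : ∀ t : Fin (q - 1), (q + 1) * t.1 < orderOf g := fun t => by
        rw [hgo, hqq]; exact Nat.mul_lt_mul_of_pos_left t.isLt (by omega)
      exact Fin.ext (Nat.eq_of_mul_eq_mul_left (by omega)
        (pow_injOn_Iio_orderOf (Set.mem_Iio.mpr (hlt i)) (Set.mem_Iio.mpr (hlt l)) h1))
    simpa using Fintype.card_le_of_injective _ hinj
  refine ⟨E, inferInstance, inferInstance, hcard, ?_⟩
  refine exists_hom_SU (commutator_SL2 (by omega)) ((blockGL e F).comp θ)
    ((blockGL_injective e F).comp hθ) fun A u v => hermForm_mulVec σ hσ _ ?_ u v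
  change ((Matrix.fromBlocks (θ A : Matrix (Fin 2) (Fin 2) F) 0 0 1).submatrix
      finSumFinEquiv.symm finSumFinEquiv.symm)ᵀ *
    ((Matrix.fromBlocks (θ A : Matrix (Fin 2) (Fin 2) F) 0 0 1).submatrix
      finSumFinEquiv.symm finSumFinEquiv.symm).map σ = 1
  rw [Matrix.transpose_submatrix, Matrix.fromBlocks_transpose, ← Matrix.submatrix_map,
    Matrix.fromBlocks_map, Matrix.submatrix_mul_equiv, Matrix.fromBlocks_multiply]
  simp [hunit A, Matrix.fromBlocks_one]

end CfsgLib.WordLaws
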