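import Mathlib

/-!
# No non-trivial law holds in `SL₂` of a large field

The elements `u(X^(i+1)) v(X^(i+1))` of `SL₂(ℤ[X])` freely generate a free group, and every non-trivial word in
them has an entry of positive degree with leading coefficient `±1`. Specialising `X` at an element that avoids a
bounded number of roots gives a non-scalar value in `SL₂(F)` for every field `F` of large order.
-/

set_option autoImplicit false

namespace CfsgLib.WordLaws

open Matrix Polynomial

/-- Upper unitriangular element. -/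
def upper {R : Type*} [CommRing R] (a : R) : SpecialLinearGroup (Fin 2) R :=
  ⟨!![1, a; 0, 1], by simp [Matrix.det_fin_two]⟩

/-- Lower unitriangular element. -/
def lower {R : Type*} [CommRing R] (a : R) : SpecialLinearGroup (Fin 2) R :=
  ⟨!![1, 0; a, 1], by simp [Matrix.det_fin_two]⟩

/-- The action of a matrix on pairs. -/
def act {R : Type*} [CommRing R] (M : SpecialLinearGroup (Fin 2) R) (s : R × R) : R × R :=
  (M.1 0 0 * s.1 + M.1 0 1 * s.2, M.1 1 0 * s.1 + M.1 1 1 * s.2)

theorem act_mul {R : Type*} [CommRing R] (M N : SpecialLinearGroup (Fin 2) R) (s : R × R) :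
    act (M * N) s = act M (act N s) := by
  have h : (M * N).1 = M.1 * N.1 := rfl
  simp only [act, h, Matrix.mul_apply, Fin.sum_univ_two]
  ext <;> ring

theorem act_upper {R : Type*} [CommRing R] (a : R) (s : R × R) :
    act (upper a) s = (s.1 + a * s.2, s.2) := by
  simp [act, upper]

theorem act_lower {R : Type*} [CommRing R] (a : R) (s : R × R) :
    act (lower a) s = (s.1, a * s.1 + s.2) := by
  simp [act, lower]

/-- First coordinate dominates. -/
def RegA (s : ℤ[X] × ℤ[X]) : Prop := IsUnit s.1.leadingCoeff ∧ s.2.degree < s.1.degree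

/-- Second coordinate dominates. -/
def RegB (s : ℤ[X] × ℤ[X]) : Prop := IsUnit s.2.leadingCoeff ∧ s.1.degree < s.2.degree

/-- Positive degree with unit leading coefficient. -/
def Big (f : ℤ[X]) : Prop := IsUnit f.leadingCoeff ∧ 0 < f.degree

theorem Big.neg {f : ℤ[X]} (h : Big f) : Big (-f) := ⟨by simpa using h.1.neg, by simpa using h.2⟩

theorem big_X_pow (i : ℕ) : Big (X ^ (i + 1) : ℤ[X]) :=
  ⟨by simp, by rw [degree_X_pow]; exact_mod_cast Nat.succ_pos i⟩

theorem big_sub {i j : ℕ} (h : i ≠ j) : Big (X ^ (i + 1) - X ^ (j + 1) : ℤ[X]) := by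
  wlog hij : j < i generalizing i j
  · simpa using (this h.symm (by omega)).neg
  have hlt : (X ^ (j + 1) : ℤ[X]).degree < (X ^ (i + 1) : ℤ[X]).degree := by
    rw [degree_X_pow, degree_X_pow]; exact_mod_cast Nat.succ_lt_succ hij
  refine ⟨?_, ?_⟩
  · rw [leadingCoeff_sub_of_degree_lt hlt]; simp
  · rw [degree_sub_eq_left_of_degree_lt hlt]; exact (big_X_pow i).2

theorem dominate {f a b : ℤ[X]} (hf : Big f) (hb : IsUnit b.leadingCoeff) (hab : a.degree < b.degree) :
    Big (a + f * b) ∧ b.degree < (a + f * b).degree := by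
  have hb0 : b ≠ 0 := by rintro rfl; simp at hb
  have hlt : b.degree < (f * b).degree := by
    rw [degree_mul]
    exact (zero_add b.degree).symm.trans_lt
      (WithBot.add_lt_add_right (degree_ne_bot.mpr hb0) hf.2)
  have hlt' : a.degree < (f * b).degree := hab.trans hlt
  have hd : (a + f * b).degree = (f * b).degree := degree_add_eq_right_of_degree_lt hlt'
  refine ⟨⟨?_, ?_⟩, by rw [hd]; exact hlt⟩
  · rw [leadingCoeff_add_of_degree_lt hlt', leadingCoeff_mul]; exact hf.1.mul hb
  · rw [hd]
    exact (zero_le_degree_iff.mpr hb0).trans_lt hlt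

theorem upper_RegB {f : ℤ[X]} (hf : Big f) {s : ℤ[X] × ℤ[X]} (hs : RegB s) :
    RegA (act (upper f) s) ∧ Big (act (upper f) s).1 := by
  obtain ⟨h1, h2⟩ := dominate hf hs.1 hs.2
  rw [act_upper]
  exact ⟨⟨h1.1, h2⟩, h1⟩

theorem lower_RegA {f : ℤ[X]} (hf : Big f) {s : ℤ[X] × ℤ[X]} (hs : RegA s) :
    RegB (act (lower f) s) ∧ Big (act (lower f) s).2 := by
  obtain ⟨h1, h2⟩ := dominate hf hs.1 hs.2
  rw [act_lower, add_comm (f * s.1)]
  exact ⟨⟨h1.1, h2⟩, h1⟩

/-- The image of a generator. -/
noncomputable def genElt (i : ℕ) : SpecialLinearGroup (Fin 2) ℤ[X] := upper (X ^ (i + 1)) * lower (X ^ (i + 1))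

theorem genElt_inv (i : ℕ) :
    (genElt i)⁻¹ = lower (-X ^ (i + 1)) * upper (-X ^ (i + 1)) := by
  refine inv_eq_of_mul_eq_one_right (Subtype.ext ?_)
  change (upper (X ^ (i + 1))).1 * (lower (X ^ (i + 1))).1 * ((lower (-X ^ (i + 1))).1 * (upper (-X ^ (i + 1))).1) = 1
  refine Matrix.ext fun a b => ?_
  fin_cases a <;> fin_cases b <;> simp [upper, lower, Matrix.mul_apply, Fin.sum_univ_two] <;> ring

/-- The value of a letter. -/
noncomputable def letterVal (x : ℕ × Bool) : SpecialLinearGroup (Fin 2) ℤ[X] :=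
  bif x.2 then genElt x.1 else (genElt x.1)⁻¹

/-- The ping-pong invariant attached to the first letter. -/
def Inv : ℕ × Bool → ℤ[X] × ℤ[X] → Prop
  | (i, true), s => ∃ t, RegB t ∧ s = act (upper (X ^ (i + 1))) t
  | (i, false), s => ∃ t, RegA t ∧ s = act (lower (-X ^ (i + 1))) t

theorem upper_add {R : Type*} [CommRing R] (a b : R) (s : R × R) :
    act (upper a) (act (upper b) s) = act (upper (a + b)) s := by
  simp only [act_upper]; ext <;> simp; ring

theorem lower_add {R : Type*} [CommRing R] (a b : R) (s : R × R) :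
    act (lower a) (act (lower b) s) = act (lower (a + b)) s := by
  simp only [act_lower]; ext <;> simp; ring

theorem step_true (i : ℕ) (s : ℤ[X] × ℤ[X]) (hs : RegB (act (lower (X ^ (i + 1))) s)) :
    Inv (i, true) (act (genElt i) s) :=
  ⟨_, hs, by rw [genElt, act_mul]⟩

theorem step_false (i : ℕ) (s : ℤ[X] × ℤ[X]) (hs : RegA (act (upper (-X ^ (i + 1))) s)) :
    Inv (i, false) (act (genElt i)⁻¹ s) :=
  ⟨_, hs, by rw [genElt_inv, act_mul]⟩

theorem inv_step (x y : ℕ × Bool) (hxy : x.1 = y.1 → x.2 = y.2) (s : ℤ[X] × ℤ[X]) (hs : Inv y s) :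
    Inv x (act (letterVal x) s) := by
  obtain ⟨i, a⟩ := x
  obtain ⟨j, b⟩ := y
  cases a <;> cases b <;> obtain ⟨t, ht, rfl⟩ := hs <;> simp only [letterVal, cond_true, cond_false]
  · exact step_false i _ (upper_RegB (big_X_pow i).neg (lower_RegA (big_X_pow j).neg ht).1).1
  · refine step_false i _ ?_
    rw [upper_add]
    refine (upper_RegB ?_ ht).1
    have hij : j ≠ i := fun h => Bool.noConfusion (hxy h.symm)
    simpa [neg_add_eq_sub] using big_sub hij
  · refine step_true i _ ?_
    rw [lower_add]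
    refine (lower_RegA ?_ ht).1
    have hij : i ≠ j := fun h => Bool.noConfusion (hxy h)
    simpa [← sub_eq_add_neg] using big_sub hij
  · exact step_true i _ (lower_RegA (big_X_pow i) (upper_RegB (big_X_pow j) ht).1).1

theorem exists_inv : ∀ (L : List (ℕ × Bool)) (x : ℕ × Bool), FreeGroup.IsReduced (x :: L) →
    ∃ e : ℤ[X] × ℤ[X], (e = (1, 0) ∨ e = (0, 1)) ∧ Inv x (act ((x :: L).map letterVal).prod e)
  | [], (i, true), _ => ⟨(1, 0), Or.inl rfl, by
      simpa [letterVal] using step_true i (1, 0) (lower_RegA (big_X_pow i) ⟨by simp, by simp⟩).1⟩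
  | [], (i, false), _ => ⟨(0, 1), Or.inr rfl, by
      simpa [letterVal] using step_false i (0, 1) (upper_RegB (big_X_pow i).neg ⟨by simp, by simp⟩).1⟩
  | y :: L, x, h => by
      rw [FreeGroup.IsReduced, List.isChain_cons_cons] at h
      obtain ⟨e, he, hinv⟩ := exists_inv L y h.2
      refine ⟨e, he, ?_⟩
      rw [List.map_cons, List.prod_cons, act_mul]
      exact inv_step x y h.1 _ hinv

/-- A non-trivial word has an entry of positive degree with unit leading coefficient. -/
theorem exists_big_entry {w : FreeGroup ℕ} (hw : w ≠ 1) :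
    ∃ k l, Big ((FreeGroup.lift genElt w).1 k l) := by
  obtain ⟨x, L, hL⟩ := List.exists_cons_of_ne_nil (l := w.toWord) (by simpa using hw)
  obtain ⟨e, he, hinv⟩ := exists_inv L x (hL ▸ FreeGroup.isReduced_toWord)
  have hM : FreeGroup.lift genElt w = ((x :: L).map letterVal).prod := by
    rw [← hL]
    conv_lhs => rw [← FreeGroup.mk_toWord (x := w)]
    rw [FreeGroup.lift_mk]
    rfl
  rw [← hM] at hinv
  obtain ⟨i, a⟩ := x
  cases a <;> obtain ⟨t, ht, hts⟩ := hinv
  · have := (lower_RegA (big_X_pow i).neg ht).2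
    rw [← hts] at this
    rcases he with rfl | rfl
    · exact ⟨1, 0, by simpa [act] using this⟩
    · exact ⟨1, 1, by simpa [act] using this⟩
  · have := (upper_RegB (big_X_pow i) ht).2
    rw [← hts] at this
    rcases he with rfl | rfl
    · exact ⟨0, 0, by simpa [act] using this⟩
    · exact ⟨0, 1, by simpa [act] using this⟩

/-- For every non-trivial word there is a bound past which some substitution in `SL₂(F)` has non-central value. -/
theorem exists_noncentral_SL2 (w : FreeGroup ℕ) (hw : w ≠ 1) :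
    ∃ N : ℕ, ∀ (F : Type*) [Field F] [Fintype F], N ≤ Fintype.card F →
      ∃ f : ℕ → SpecialLinearGroup (Fin 2) F,
        FreeGroup.lift f w ∉ Subgroup.center (SpecialLinearGroup (Fin 2) F) := by
  obtain ⟨k, l, hP⟩ := exists_big_entry hw
  set P := (FreeGroup.lift genElt w).1 k l
  set Q := P * (P - 1) * (P + 1) with hQdef
  have hlt : (1 : ℤ[X]).degree < P.degree := by rw [degree_one]; exact hP.2
  have hm : IsUnit (P - 1).leadingCoeff := by
    rw [leadingCoeff_sub_of_degree_lt hlt]; exact hP.1
  have hp : IsUnit (P + 1).leadingCoeff := by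
    rw [leadingCoeff_add_of_degree_lt' hlt]; exact hP.1
  have hQ : IsUnit Q.leadingCoeff := by
    rw [hQdef, leadingCoeff_mul, leadingCoeff_mul]; exact (hP.1.mul hm).mul hp
  refine ⟨Q.natDegree + 1, fun F _ _ hF => ?_⟩
  have hQ0 : Q.map (Int.castRingHom F) ≠ 0 := by
    intro h
    have h1 := congrArg (fun q => Polynomial.coeff q Q.natDegree) h
    simp only [Polynomial.coeff_map, Polynomial.coeff_zero] at h1
    exact (hQ.map (Int.castRingHom F)).ne_zero h1
  obtain ⟨t, ht⟩ : ∃ t : F, (Q.map (Int.castRingHom F)).eval t ≠ 0 := by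
    classical
    by_contra hall
    push Not at hall
    have hsub : (Finset.univ : Finset F) ⊆ (Q.map (Int.castRingHom F)).roots.toFinset := fun a _ => by
      rw [Multiset.mem_toFinset, Polynomial.mem_roots hQ0]; exact hall a
    have hcard := ((Finset.card_le_card hsub).trans (Multiset.toFinset_card_le _)).trans
      (Polynomial.card_roots' _)
    rw [Finset.card_univ] at hcard
    have hle := Polynomial.natDegree_map_le (p := Q) (f := Int.castRingHom F)
    omega
  refine ⟨fun i => SpecialLinearGroup.map (Polynomial.eval₂RingHom (Int.castRingHom F) t) (genElt i), fun hc => ?_⟩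
  have hmap : FreeGroup.lift
      (fun i => SpecialLinearGroup.map (Polynomial.eval₂RingHom (Int.castRingHom F) t) (genElt i)) w =
      SpecialLinearGroup.map (Polynomial.eval₂RingHom (Int.castRingHom F) t) (FreeGroup.lift genElt w) := by
    have h : FreeGroup.lift
        (fun i => SpecialLinearGroup.map (Polynomial.eval₂RingHom (Int.castRingHom F) t) (genElt i)) =
        (SpecialLinearGroup.map (Polynomial.eval₂RingHom (Int.castRingHom F) t)).comp
          (FreeGroup.lift genElt) := FreeGroup.ext_hom _ _ (by intro a; simp)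
    rw [h]; rfl
  rw [hmap, Matrix.SpecialLinearGroup.mem_center_iff] at hc
  obtain ⟨c, hc2, hcM⟩ := hc
  have hkl := congrFun (congrFun hcM k) l
  change (Matrix.scalar (Fin 2) c) k l = Polynomial.eval₂ (Int.castRingHom F) t P at hkl
  rw [Matrix.scalar_apply, Matrix.diagonal_apply] at hkl
  apply ht
  rw [Polynomial.eval_map, hQdef, eval₂_mul, eval₂_mul, eval₂_sub, eval₂_add, eval₂_one, ← hkl]
  rw [Fintype.card_fin] at hc2
  split_ifs with h
  · linear_combination c * hc2
  · ring

end CfsgLib.WordLaws
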